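import Groth.Agent.HorrocksLib.Idem
import Mathlib.RingTheory.Localization.Algebra
import Mathlib.RingTheory.Localization.AtPrime.Basic
import Mathlib.Algebra.Polynomial.AlgebraMap
import Mathlib.Algebra.Polynomial.Inductions

/-! Quillen patching for idempotent matrices. -/

set_option autoImplicit false
set_option linter.style.haveILetI false
open Matrix Polynomial

universe u v

namespace Groth.Agent.HorrocksLib

variable {A : Type u} [CommRing A] {m : Type*} [Fintype m] [DecidableEq m]

/-- `e(X) ↦ e(X + sY)`. -/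
noncomputable def shift (s : A) : A[X] →+* A[X][X] :=
  eval₂RingHom ((C : A[X] →+* A[X][X]).comp C) (C X + C (C s) * X)

/-- `Y ↦ sY`. -/
noncomputable def scale (s : A) : A[X][X] →+* A[X][X] :=
  eval₂RingHom C (C (C s) * X)

theorem shift_zero : shift (0 : A) = C := by
  refine Polynomial.ringHom_ext (fun a => ?_) ?_ <;> simp [shift]

theorem scale_shift (r s : A) : (scale r).comp (shift s) = shift (r * s) := by
  refine Polynomial.ringHom_ext (fun a => ?_) ?_ <;> simp [shift, scale] <;> ring

theorem scale_comp_C (r : A) : (scale r).comp (C : A[X] →+* A[X][X]) = C := by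
  exact RingHom.ext fun a => by simp [scale]

theorem map_shift_const (s : A) (e₀ : Matrix m m A) : (e₀.map C).map (shift s) = (e₀.map C).map C := by
  refine Matrix.ext fun i j => ?_
  simp [shift]

/-- Quillen's ideal. -/
noncomputable def patchIdeal (e : Matrix m m A[X]) (he : e * e = e) : Ideal A where
  carrier := {s | Eqv (e.map (shift s)) (e.map (C : A[X] →+* A[X][X]))}
  zero_mem' := by
    change Eqv _ _
    rw [shift_zero]
    exact ⟨_, _, idem_map C he, idem_map C he⟩
  add_mem' := by
    intro a b ha hb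
    let τ : A[X][X] →+* A[X][X] := eval₂RingHom (shift b) X
    have h1 : τ.comp (shift a) = shift (a + b) := by
      refine Polynomial.ringHom_ext (fun c => ?_) ?_ <;> simp [τ, shift] <;> ring
    have h2 : τ.comp C = shift b := RingHom.ext fun c => by simp [τ]
    have h := Eqv.map τ (show Eqv _ _ from ha)
    simp only [Matrix.map_map, ← RingHom.coe_comp, h1, h2] at h
    exact Eqv.trans (idem_map _ he) (idem_map C he) h hb
  smul_mem' := by
    intro r s hs
    have h := Eqv.map (scale r) (show Eqv _ _ from hs)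
    simp only [Matrix.map_map, ← RingHom.coe_comp, scale_shift, scale_comp_C] at h
    exact h

theorem divX_decomp {m' : Type*} (U : Matrix m m' A[X][X]) :
    U = (U.map (evalRingHom (0 : A[X]))).map (C : A[X] →+* A[X][X]) + (X : A[X][X]) • U.map Polynomial.divX := by
  refine Matrix.ext fun i j => ?_
  simp only [Matrix.add_apply, Matrix.map_apply, Matrix.smul_apply, smul_eq_mul, coe_evalRingHom,
    ← coeff_zero_eq_eval_zero]
  rw [add_comm]
  exact (Polynomial.X_mul_divX_add (U i j)).symm

theorem scale_eq_zero {n : Type*} (D : Matrix m n A[X][X]) (h0 : D.map (evalRingHom 0) = 0) (c : A)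
    (hc : (C (C c) : A[X][X]) • D = 0) : D.map (scale c) = 0 := by
  have hD := divX_decomp D
  rw [h0, Matrix.map_zero _ (map_zero _), zero_add] at hD
  refine Matrix.ext fun i j => ?_
  have h1 : D i j = X * (D i j).divX := congrFun (congrFun hD i) j
  have h2 : C (C c) * D i j = 0 := congrFun (congrFun hc i) j
  have h3 : C (C c) * (D i j).divX = 0 := by
    apply (Polynomial.monic_X (R := A[X])).isRegular.left
    change X * _ = X * 0
    rw [mul_left_comm, ← h1, h2, mul_zero]
  rw [Matrix.map_apply, h1, map_mul, Matrix.zero_apply, show scale c X = C (C c) * X by simp [scale]]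
  rw [show C (C c) * X * scale c (D i j).divX = X * (scale c (C (C c)) * scale c (D i j).divX) by
    rw [show scale c (C (C c)) = C (C c) by simp [scale]]; ring, ← map_mul, h3, map_zero, mul_zero]

/-- The local step. -/
theorem exists_mem_patchIdeal (p : Ideal A) [p.IsPrime] (e : Matrix m m A[X]) (he : e * e = e)
    {L : Type u} [CommRing L] [Algebra A L] [IsLocalization.AtPrime L p]
    {r : Type*} [Fintype r] [DecidableEq r] (f₀ : Matrix r r L) (hf₀ : f₀ * f₀ = f₀)
    (h : Eqv (e.map (mapRingHom (algebraMap A L))) (f₀.map C)) :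
    ∃ s ∉ p, s ∈ patchIdeal e he := by
  classical
  set φ : A[X] →+* L[X] := mapRingHom (algebraMap A L) with hφ
  set Φ : A[X][X] →+* L[X][X] := mapRingHom φ with hΦ
  set eL := e.map φ with heL
  have heLi : eL * eL = eL := idem_map φ he
  set e₀ := eL.map (evalRingHom (0 : L)) with he₀
  have h' : Eqv eL (e₀.map C) := by
    have h1 : Eqv (eL.map (evalRingHom (0 : L))) ((f₀.map C).map (evalRingHom (0 : L))) :=
      Eqv.map (evalRingHom (0 : L)) h
    have h2 : ((f₀.map C).map (evalRingHom (0 : L))) = f₀ := by ext i j; simp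
    rw [h2] at h1
    exact h.trans heLi (idem_map C (idem_map _ heLi)) (h1.symm.map C)
  obtain ⟨u, v, huv, hvu, -, hue, hev, -⟩ := h'.normal heLi (idem_map C (idem_map _ heLi))
  let U := u.map (shift (1 : L)) * v.map (C : L[X] →+* L[X][X])
  let V := u.map (C : L[X] →+* L[X][X]) * v.map (shift (1 : L))
  have hUV : U * V = eL.map (shift (1 : L)) := by
    simp only [U, V]
    rw [Matrix.mul_assoc, ← Matrix.mul_assoc (v.map _), ← Matrix.map_mul, hvu, ← map_shift_const (1 : L),
      ← Matrix.map_mul, ← Matrix.map_mul, hev, huv]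
  have hVU : V * U = eL.map (C : L[X] →+* L[X][X]) := by
    simp only [U, V]
    rw [Matrix.mul_assoc, ← Matrix.mul_assoc (v.map _), ← Matrix.map_mul, hvu, map_shift_const (1 : L),
      ← Matrix.map_mul, ← Matrix.map_mul, hev, huv]
  have hev0 : (evalRingHom (0 : L[X])).comp (shift (1 : L)) = RingHom.id _ := by
    refine Polynomial.ringHom_ext (fun a => ?_) ?_ <;> simp [shift]
  have hev0' : (evalRingHom (0 : L[X])).comp (C : L[X] →+* L[X][X]) = RingHom.id _ := by
    exact RingHom.ext fun a => by simp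
  have hU0 : U.map (evalRingHom 0) = eL := by
    simp only [U, Matrix.map_mul, Matrix.map_map, ← RingHom.coe_comp, hev0, hev0', RingHom.coe_id, Matrix.map_id,
      huv]
  have hV0 : V.map (evalRingHom 0) = eL := by
    simp only [V, Matrix.map_mul, Matrix.map_map, ← RingHom.coe_comp, hev0, hev0', RingHom.coe_id, Matrix.map_id,
      huv]
  -- clear denominators
  letI : Algebra A[X] L[X] := Polynomial.algebra A L
  letI : Algebra A[X][X] L[X][X] := Polynomial.algebra A[X] L[X]
  haveI : IsLocalization (p.primeCompl.map (C : A →+* A[X])) L[X] := by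
    exact Polynomial.isLocalization p.primeCompl L
  haveI : IsLocalization ((p.primeCompl.map (C : A →+* A[X])).map (C : A[X] →+* A[X][X])) L[X][X] := by
    exact Polynomial.isLocalization (p.primeCompl.map (C : A →+* A[X])) L[X]
  set T := (p.primeCompl.map (C : A →+* A[X])).map (C : A[X] →+* A[X][X])
  have hΦC : ∀ q : A[X], Φ (C q) = C (φ q) := fun q => by simp [hΦ]
  obtain ⟨t₁, W₁, hW₁⟩ := exists_num T (U.map Polynomial.divX)
  obtain ⟨t₂, W₂, hW₂⟩ := exists_num T (V.map Polynomial.divX)
  obtain ⟨⟨_, ⟨_, ⟨s₁, hs₁, rfl⟩, rfl⟩⟩, rfl⟩ : ∃ t : T, t₁ = t := ⟨t₁, rfl⟩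
  obtain ⟨⟨_, ⟨_, ⟨s₂, hs₂, rfl⟩, rfl⟩⟩, rfl⟩ : ∃ t : T, t₂ = t := ⟨t₂, rfl⟩
  set s := s₁ * s₂ with hs
  let U' := (e.map C) + (X : A[X][X]) • ((C (C s₂) : A[X][X]) • W₁).map (scale s)
  let V' := (e.map C) + (X : A[X][X]) • ((C (C s₁) : A[X][X]) • W₂).map (scale s)
  have hΦs : Φ.comp (scale s) = (scale (algebraMap A L s)).comp Φ := by
    refine Polynomial.ringHom_ext (fun a => ?_) ?_ <;> simp [hΦ, hφ, scale]
  have hscaleC : (scale (algebraMap A L s)).comp (C : L[X] →+* L[X][X]) = C := scale_comp_C _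
  have key : ∀ (W : Matrix m m A[X][X]) (Z : Matrix m m L[X][X]) (s' : A), Z.map (evalRingHom 0) = eL →
      W.map (algebraMap A[X][X] L[X][X]) = (C (C s') : A[X][X]) • Z.map Polynomial.divX → ∀ s'' : A, s = s' * s'' →
      ((e.map C) + (X : A[X][X]) • ((C (C s'') : A[X][X]) • W).map (scale s)).map Φ =
        Z.map (scale (algebraMap A L s)) := by
    intro W Z s' hZ hW s'' hs'
    conv_rhs => rw [divX_decomp Z, hZ]
    refine Matrix.ext fun i j => ?_
    have hW' : Φ (W i j) = Φ (C (C s')) * (Z i j).divX := by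
      refine (congrFun (congrFun hW i) j).trans ?_
      simp only [Matrix.smul_apply, Matrix.map_apply]
      exact Algebra.smul_def _ _
    have hsc : ∀ a, Φ (scale s a) = scale (algebraMap A L s) (Φ a) := fun a => RingHom.congr_fun hΦs a
    simp only [Matrix.map_apply, Matrix.add_apply, Matrix.smul_apply, smul_eq_mul, map_add, map_mul, hΦC, heL, hsc,
      hW']
    rw [show scale (algebraMap A L s) (C (φ (e i j))) = C (φ (e i j)) from RingHom.congr_fun hscaleC _]
    congr 1
    rw [hs']
    simp [hΦ, hφ, scale]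
    ring
  have hU' : U'.map Φ = U.map (scale (algebraMap A L s)) := key W₁ U s₁ hU0 hW₁ s₂ rfl
  have hV' : V'.map Φ = V.map (scale (algebraMap A L s)) := key W₂ V s₂ hV0 hW₂ s₁ (mul_comm _ _)
  have hΦshift : (scale (algebraMap A L s)).comp ((shift (1 : L)).comp φ) = Φ.comp (shift s) := by
    refine Polynomial.ringHom_ext (fun a => ?_) ?_ <;> simp [hΦ, hφ, shift, scale]
  have hD₁ : (U' * V' - e.map (shift s)).map Φ = 0 := by
    rw [Matrix.map_sub _ (map_sub Φ), Matrix.map_mul, hU', hV', ← Matrix.map_mul, hUV]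
    refine sub_eq_zero.2 ?_
    rw [heL,
      Matrix.map_map, Matrix.map_map, Matrix.map_map, ← RingHom.coe_comp, ← RingHom.coe_comp, ← RingHom.coe_comp,
      ← hΦshift]
    rfl
  have hD₂ : (V' * U' - e.map C).map Φ = 0 := by
    rw [Matrix.map_sub _ (map_sub Φ), Matrix.map_mul, hU', hV', ← Matrix.map_mul, hVU]
    refine sub_eq_zero.2 ?_
    refine Matrix.ext fun i j => ?_
    change scale (algebraMap A L s) (C (φ (e i j))) = Φ (C (e i j))
    rw [hΦC]
    exact RingHom.congr_fun hscaleC _
  have hz : ∀ W : Matrix m m A[X][X], ((e.map C) + (X : A[X][X]) • W).map (evalRingHom (0 : A[X])) = e := fun W => by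
    refine Matrix.ext fun i j => ?_; simp
  have hz₁ : (U' * V' - e.map (shift s)).map (evalRingHom (0 : A[X])) = 0 := by
    rw [Matrix.map_sub _ (map_sub _), Matrix.map_mul, hz, hz, he, Matrix.map_map, ← RingHom.coe_comp,
      show (evalRingHom (0 : A[X])).comp (shift s) = RingHom.id _ from
        Polynomial.ringHom_ext (fun a => by simp [shift]) (by simp [shift]),
      RingHom.coe_id, Matrix.map_id, sub_self]
  have hz₂ : (V' * U' - e.map C).map (evalRingHom (0 : A[X])) = 0 := by
    rw [Matrix.map_sub _ (map_sub _), Matrix.map_mul, hz, hz, he]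
    refine Matrix.ext fun i j => ?_; simp
  obtain ⟨⟨_, ⟨_, ⟨c₁, hc₁, rfl⟩, rfl⟩⟩, hc₁D⟩ := exists_smul_eq T (S := L[X][X]) (U' * V' - e.map (shift s)) 0
    (hD₁.trans (Matrix.map_zero _ (map_zero _)).symm)
  obtain ⟨⟨_, ⟨_, ⟨c₂, hc₂, rfl⟩, rfl⟩⟩, hc₂D⟩ := exists_smul_eq T (S := L[X][X]) (V' * U' - e.map C) 0
    (hD₂.trans (Matrix.map_zero _ (map_zero _)).symm)
  refine ⟨c₁ * c₂ * s, fun hmem => ?_, ?_⟩
  · exact ((‹p.IsPrime›.mem_or_mem hmem).elim (fun h => (‹p.IsPrime›.mem_or_mem h).elim hc₁ hc₂) fun h =>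
      (‹p.IsPrime›.mem_or_mem h).elim hs₁ hs₂)
  · refine ⟨U'.map (scale (c₁ * c₂)), V'.map (scale (c₁ * c₂)), ?_, ?_⟩
    · rw [← Matrix.map_mul, ← scale_shift, RingHom.coe_comp, ← Matrix.map_map, ← sub_eq_zero,
        ← Matrix.map_sub _ (map_sub _)]
      refine scale_eq_zero _ hz₁ _ ?_
      have h1 : (C (C c₁) : A[X][X]) • (U' * V' - e.map (shift s)) = 0 := hc₁D.trans (smul_zero _)
      rw [map_mul, map_mul, mul_comm, mul_smul, h1, smul_zero]
    · rw [← Matrix.map_mul, show (e.map C : Matrix m m A[X][X]) = (e.map C).map (scale (c₁ * c₂)) by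
          rw [Matrix.map_map, ← RingHom.coe_comp, scale_comp_C], ← sub_eq_zero, ← Matrix.map_sub _ (map_sub _)]
      refine scale_eq_zero _ hz₂ _ ?_
      have h1 : (C (C c₂) : A[X][X]) • (V' * U' - e.map C) = 0 := hc₂D.trans (smul_zero _)
      rw [map_mul, map_mul, mul_smul, h1, smul_zero]

/-- Quillen patching. -/
theorem eqv_eval_zero (e : Matrix m m A[X]) (he : e * e = e)
    (h : ∀ (p : Ideal A) [p.IsMaximal], ∃ (r : ℕ), Eqv (e.map (mapRingHom (algebraMap A (Localization.AtPrime p))))
      (1 : Matrix (Fin r) (Fin r) (Localization.AtPrime p)[X])) :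
    Eqv e ((e.map (evalRingHom (0 : A))).map C) := by
  have h1 : (1 : A) ∈ patchIdeal e he := by
    by_contra hne
    obtain ⟨p, hp, hle⟩ := (patchIdeal e he).exists_le_maximal (fun h => hne (by rw [h]; trivial))
    haveI := hp
    obtain ⟨r, hr⟩ := h p
    obtain ⟨s, hs, hsI⟩ := exists_mem_patchIdeal p e he (1 : Matrix (Fin r) (Fin r) (Localization.AtPrime p))
      (one_mul _) (by rwa [Matrix.map_one _ (map_zero _) (map_one _)])
    exact hs (hle hsI)
  let θ : A[X][X] →+* A[X] := eval₂RingHom ((C : A →+* A[X]).comp (evalRingHom 0)) X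
  have h2 : θ.comp (shift 1) = RingHom.id _ := by
    refine Polynomial.ringHom_ext (fun a => ?_) ?_ <;> simp [θ, shift]
  have h3 : θ.comp C = (C : A →+* A[X]).comp (evalRingHom 0) := RingHom.ext fun a => by simp [θ]
  have h4 := Eqv.map θ (show Eqv _ _ from h1)
  rw [Matrix.map_map, Matrix.map_map, ← RingHom.coe_comp, ← RingHom.coe_comp, h2, h3, RingHom.coe_id,
    Matrix.map_id] at h4
  rw [Matrix.map_map, ← RingHom.coe_comp]
  exact h4

end Groth.Agent.HorrocksLib
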