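import Groth.Agent.HorrocksLib.Local
import Groth.Agent.HorrocksLib.Patching
import Mathlib.Algebra.Polynomial.Laurent
import Mathlib.Algebra.Polynomial.Reverse
import Mathlib.Algebra.Polynomial.Inductions

/-! Gluing over the Laurent polynomial ring. -/

set_option autoImplicit false
set_option linter.style.haveILetI false
open Matrix Polynomial
open scoped LaurentPolynomial

universe u v w

namespace Groth.Agent.HorrocksLib

variable {m k : Type*} [Fintype m] [DecidableEq m] [Fintype k] [DecidableEq k]

section Semilinear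

variable {R : Type u} [CommRing R]

theorem eqv_of_semilinear (σ : R →+* R) (hσ : ∀ a, σ (σ a) = a) {e : Matrix m m R} {f : Matrix k k R}
    {M : Type v} {M' : Type w} [AddCommGroup M] [Module R M] [AddCommGroup M'] [Module R M']
    (P : Pres e M) (P' : Pres f M') (E : M →ₛₗ[σ] M') (hE : Function.Bijective E) :
    Eqv e (f.map σ) := by
  have hinv : ∀ (a : R) (z : M'), Function.surjInv hE.2 (σ a • z) = a • Function.surjInv hE.2 z := fun a z => by
    apply hE.1
    rw [LinearMap.map_smulₛₗ, Function.surjInv_eq hE.2, Function.surjInv_eq hE.2]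
  let G : (m → R) →ₗ[R] (k → R) :=
    { toFun := fun x l => σ (P'.ι (E (P.π x)) l)
      map_add' := fun x y => funext fun l => by simp
      map_smul' := fun a x => funext fun l => by simp [LinearMap.map_smulₛₗ, hσ] }
  let H : (k → R) →ₗ[R] (m → R) :=
    { toFun := fun y => P.ι (Function.surjInv hE.2 (P'.π fun l => σ (y l)))
      map_add' := fun x y => by
        have h1 : (fun l => σ ((x + y) l)) = (fun l => σ (x l)) + fun l => σ (y l) := funext fun l => by simp
        rw [h1, ← map_add P.ι]
        congr 1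
        apply hE.1
        rw [map_add E, Function.surjInv_eq hE.2, Function.surjInv_eq hE.2, Function.surjInv_eq hE.2, map_add P'.π]
      map_smul' := fun a y => by
        have h1 : (fun l => σ ((a • y) l)) = σ a • fun l => σ (y l) := funext fun l => by simp
        rw [h1, map_smul, hinv, map_smul, RingHom.id_apply] }
  refine ⟨LinearMap.toMatrix' H, LinearMap.toMatrix' G, ?_, ?_⟩
  · refine Matrix.ext_of_mulVec_single fun i => ?_
    rw [← Matrix.mulVec_mulVec, LinearMap.toMatrix'_mulVec, LinearMap.toMatrix'_mulVec, ← P.ι_π]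
    change P.ι (Function.surjInv hE.2 (P'.π fun l => σ (σ (P'.ι (E (P.π (Pi.single i 1))) l)))) = _
    simp only [hσ, P'.π_ι]
    congr 1
    apply hE.1
    rw [Function.surjInv_eq hE.2]
  · refine Matrix.ext_of_mulVec_single fun i => ?_
    rw [← Matrix.mulVec_mulVec, LinearMap.toMatrix'_mulVec, LinearMap.toMatrix'_mulVec]
    funext l
    change σ (P'.ι (E (P.π (P.ι (Function.surjInv hE.2 (P'.π fun l => σ ((Pi.single i 1 : k → R) l)))))) l) = _
    rw [P.π_ι, Function.surjInv_eq hE.2, P'.ι_π, RingHom.map_mulVec]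
    congr 1
    funext l'
    exact hσ _

end Semilinear

section Reflect

variable {L : Type u} [CommRing L]

theorem toLaurent_reflect (p : L[X]) (D : ℕ) (hp : p.natDegree ≤ D) :
    toLaurent (p.reflect D) = LaurentPolynomial.invert (toLaurent p) * LaurentPolynomial.T (D : ℤ) := by
  refine Polynomial.induction_with_natDegree_le
    (fun p => toLaurent (p.reflect D) = LaurentPolynomial.invert (toLaurent p) * LaurentPolynomial.T (D : ℤ))
    D ?_ ?_ ?_ p hp
  · simp
  · intro n r _ hn
    rw [reflect_C_mul_X_pow, toLaurent_C_mul_X_pow, toLaurent_C_mul_X_pow, map_mul, LaurentPolynomial.invert_C,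
      LaurentPolynomial.invert_T, mul_assoc, ← LaurentPolynomial.T_add, revAt_le hn, Nat.cast_sub hn, sub_eq_neg_add]
  · intro f g _ _ hf hg
    rw [reflect_add, map_add, map_add, hf, hg, map_add, add_mul]

/-- `p ↦ p(T⁻¹)`. -/
noncomputable def rho (L : Type u) [CommRing L] : L[X] →+* L[T;T⁻¹] :=
  (LaurentPolynomial.invert (R := L)).toRingEquiv.toRingHom.comp toLaurent

/-- Polynomials with unit constant term. -/
noncomputable def unitConst (L : Type u) [CommRing L] : Submonoid L[X] :=
  (IsUnit.submonoid L).comap (Polynomial.constantCoeff : L[X] →+* L).toMonoidHom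

theorem mem_unitConst {q : L[X]} : q ∈ unitConst L ↔ IsUnit (q.coeff 0) := Iff.rfl

theorem isLocalRing_localization_unitConst [IsLocalRing L] : IsLocalRing (Localization (unitConst L)) := by
  haveI : Nontrivial (Localization (unitConst L)) := by
    refine ⟨⟨0, 1, fun h => ?_⟩⟩
    have h1 : algebraMap L[X] (Localization (unitConst L)) 0 = algebraMap L[X] (Localization (unitConst L)) 1 := by
      rw [map_zero, map_one]; exact h
    obtain ⟨c, hc⟩ := (IsLocalization.eq_iff_exists (unitConst L) _).1 h1
    rw [mul_zero, mul_one] at hc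
    have := mem_unitConst.1 c.2
    rw [← hc, Polynomial.coeff_zero] at this
    exact not_isUnit_zero this
  refine IsLocalRing.of_isUnit_or_isUnit_one_sub_self fun a => ?_
  obtain ⟨⟨p, s⟩, h⟩ := IsLocalization.surj (unitConst L) a
  have hu := IsLocalization.map_units (Localization (unitConst L)) s
  rcases IsLocalRing.isUnit_or_isUnit_one_sub_self (p.coeff 0 * ↑(mem_unitConst.1 s.2).unit⁻¹) with h1 | h1
  · left
    have hp : p ∈ unitConst L := mem_unitConst.2 (isUnit_of_mul_isUnit_left h1)
    have := IsLocalization.map_units (Localization (unitConst L)) (⟨p, hp⟩ : unitConst L)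
    rw [← h] at this
    exact isUnit_of_mul_isUnit_left this
  · right
    have hp : (s : L[X]) - p ∈ unitConst L := by
      rw [mem_unitConst, Polynomial.coeff_sub]
      convert (mem_unitConst.1 s.2).mul h1 using 1
      rw [mul_sub, mul_one, mul_left_comm, IsUnit.mul_val_inv, mul_one]
    have := IsLocalization.map_units (Localization (unitConst L)) (⟨_, hp⟩ : unitConst L)
    rw [map_sub, ← h, ← one_sub_mul] at this
    exact isUnit_of_mul_isUnit_left this

/-- A bundle on the projective line over a local ring is free on the affine line. -/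
theorem eqv_one_of_glue [IsLocalRing L] {e : Matrix m m L[X]} (he : e * e = e) {f : Matrix k k L[X]}
    (hf : f * f = f) (h : Eqv (e.map toLaurent) (f.map (rho L))) :
    ∃ r : ℕ, Eqv e (1 : Matrix (Fin r) (Fin r) L[X]) := by
  classical
  haveI := isLocalRing_localization_unitConst (L := L)
  obtain ⟨r, hr⟩ := exists_eqv_one_of_isLocalRing
    (idem_map (algebraMap L[X] (Localization (unitConst L))) hf)
  rw [← Matrix.map_one (algebraMap L[X] (Localization (unitConst L))) (map_zero _) (map_one _)] at hr
  obtain ⟨g, hg, P, Q, hPQ, hQP⟩ := Eqv.exists_clear (unitConst L) hr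
  have hg0 : IsUnit (g.coeff 0) := mem_unitConst.1 hg
  set G := g.reflect g.natDegree
  have hG0 : G.coeff g.natDegree = g.coeff 0 := by
    rw [coeff_reflect, revAt_le le_rfl, Nat.sub_self]
  have hGd : G.natDegree ≤ g.natDegree := (Polynomial.natDegree_le_iff_coeff_eq_zero).2 fun i hi => by
    rw [coeff_reflect, show revAt g.natDegree i = i from if_neg (not_le.2 hi)]
    exact Polynomial.coeff_eq_zero_of_natDegree_lt hi
  set G₁ := Polynomial.C ((hg0.unit⁻¹ : Lˣ) : L) * G
  have hG₁ : G₁.Monic := Polynomial.monic_of_natDegree_le_of_coeff_eq_one g.natDegree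
    ((Polynomial.natDegree_C_mul_le _ _).trans hGd) (by rw [Polynomial.coeff_C_mul, hG0, IsUnit.val_inv_mul])
  have hgreg : ∀ a : L[X], g * a = 0 → a = 0 := by
    intro a ha
    ext i
    induction i using Nat.strong_induction_on with
    | h i ih =>
      have h1 := congrArg (fun q => Polynomial.coeff q i) ha
      simp only [Polynomial.coeff_mul, Polynomial.coeff_zero] at h1
      rw [Finset.sum_eq_single (0, i)] at h1
      · simpa using (hg0.mul_right_eq_zero).1 h1
      · intro b hb hne
        rw [Finset.mem_antidiagonal] at hb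
        rw [ih b.2 (by rcases b with ⟨b1, b2⟩; simp at hb hne ⊢; omega), Polynomial.coeff_zero, mul_zero]
      · simp
  have hQfP : Q * f * P = g • (1 : Matrix (Fin r) (Fin r) L[X]) := by
    have h1 : g • (Q * f * P) = g • g • (1 : Matrix (Fin r) (Fin r) L[X]) := by
      rw [← Matrix.smul_mul, ← Matrix.mul_smul, ← hPQ, ← Matrix.mul_assoc, hQP, Matrix.smul_mul, Matrix.one_mul,
        Matrix.smul_mul, hQP]
    refine Matrix.ext fun a b => sub_eq_zero.1 (hgreg _ ?_)
    rw [mul_sub, sub_eq_zero]
    exact congrFun (congrFun h1 a) b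
  set ρ := rho L
  set ι := (toLaurent : L[X] →+* L[T;T⁻¹])
  obtain ⟨u, v, huv, hvu, -, huf, hfv, -⟩ := h.normal (idem_map ι he) (idem_map ρ hf)
  have h1 : (u * P.map ρ) * (Q.map ρ * v) = ρ g • e.map ι := by
    rw [Matrix.mul_assoc, ← Matrix.mul_assoc (P.map ρ), ← Matrix.map_mul, hPQ]
    have : (g • f).map ρ = ρ g • f.map ρ := Matrix.ext fun i j => by simp
    rw [this, Matrix.smul_mul, hfv, Matrix.mul_smul, huv]
  have h2 : (Q.map ρ * v) * (u * P.map ρ) = ρ g • (1 : Matrix (Fin r) (Fin r) L[T;T⁻¹]) := by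
    rw [Matrix.mul_assoc, ← Matrix.mul_assoc v, hvu, ← Matrix.map_mul, ← Matrix.map_mul, ← Matrix.mul_assoc, hQfP]
    refine Matrix.ext fun i j => ?_
    by_cases hij : i = j <;> simp [Matrix.one_apply, hij]
  obtain ⟨⟨t, n, rfl⟩, P₁, hP₁⟩ := exists_num (Submonoid.powers (X : L[X])) (u * P.map ρ)
  obtain ⟨⟨t', n', rfl⟩, Q₁, hQ₁⟩ := exists_num (Submonoid.powers (X : L[X])) (Q.map ρ * v)
  set c := X ^ g.natDegree * Polynomial.C ((hg0.unit⁻¹ : Lˣ) : L)
  set F := X ^ n * X ^ n' * G₁
  have hF : F.Monic := ((Polynomial.monic_X_pow n).mul (Polynomial.monic_X_pow n')).mul hG₁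
  have hkey : ι (X ^ n) * ι (X ^ n') * ι c * ρ g = ι F := by
    simp only [F, c, G₁, G, map_mul]
    rw [show (ι (g.reflect g.natDegree)) = LaurentPolynomial.invert (toLaurent g) * LaurentPolynomial.T (g.natDegree : ℤ)
      from toLaurent_reflect g _ le_rfl]
    simp only [ι, toLaurent_X_pow]
    change _ * ρ g = _ * (_ * (ρ g * _))
    ring
  have hP' : P₁.map ι = ι (X ^ n) • (u * P.map ρ) := by
    refine hP₁.trans (Matrix.ext fun i j => ?_)
    simp only [Matrix.smul_apply]
    exact Algebra.smul_def _ _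
  have hQ' : (c • Q₁).map ι = (ι c * ι (X ^ n')) • (Q.map ρ * v) := by
    refine Matrix.ext fun i j => ?_
    have h3 : ι (Q₁ i j) = ι (X ^ n') * (Q.map ρ * v) i j := by
      refine (congrFun (congrFun hQ₁ i) j).trans ?_
      simp only [Matrix.smul_apply]
      exact Algebra.smul_def _ _
    simp only [Matrix.map_apply, Matrix.smul_apply, smul_eq_mul, map_mul, h3]
    ring
  have hPQ₁ : P₁ * (c • Q₁) = F • e := by
    refine Matrix.ext fun i j => Polynomial.toLaurent_injective (congrFun (congrFun (?_ :
      (P₁ * (c • Q₁)).map ι = (F • e).map ι) i) j)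
    rw [Matrix.map_mul, hP', hQ', Matrix.smul_mul, Matrix.mul_smul, h1, smul_smul, smul_smul,
      show ι (X ^ n) * (ι c * ι (X ^ n')) * ρ g = ι F by rw [← hkey]; ring]
    refine Matrix.ext fun i j => ?_
    simp
  have hQP₁ : (c • Q₁) * P₁ = F • (1 : Matrix (Fin r) (Fin r) L[X]) := by
    refine Matrix.ext fun i j => Polynomial.toLaurent_injective (congrFun (congrFun (?_ :
      ((c • Q₁) * P₁).map ι = (F • (1 : Matrix (Fin r) (Fin r) L[X])).map ι) i) j)
    rw [Matrix.map_mul, hP', hQ', Matrix.smul_mul, Matrix.mul_smul, h2, smul_smul, smul_smul,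
      show ι c * ι (X ^ n') * ι (X ^ n) * ρ g = ι F by rw [← hkey]; ring]
    refine Matrix.ext fun i j => ?_
    by_cases hij : i = j <;> simp [Matrix.one_apply, hij]
  exact ⟨r, horrocks he hF P₁ (c • Q₁) hPQ₁ hQP₁⟩

end Reflect

end Groth.Agent.HorrocksLib
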