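import Mathlib.LinearAlgebra.Matrix.ToLin
import Mathlib.LinearAlgebra.TensorProduct.Pi
import Mathlib.RingTheory.TensorProduct.Basic
import Mathlib.RingTheory.Finiteness.Basic
import Mathlib.Algebra.Module.Projective
import Mathlib.RingTheory.Localization.Integer
import Mathlib.RingTheory.LocalRing.Module
import Mathlib.LinearAlgebra.FreeModule.Finite.Basic
import Mathlib.LinearAlgebra.Dimension.StrongRankCondition
import Mathlib.LinearAlgebra.Dimension.Constructions

/-! Finite projective modules as idempotent matrices. -/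

set_option autoImplicit false
set_option linter.style.haveILetI false
open Matrix
open scoped TensorProduct

universe u v w

namespace Groth.Agent.HorrocksLib

variable {R : Type u} [CommRing R]
variable {m n k : Type*} [Fintype m] [Fintype n] [Fintype k] [DecidableEq m] [DecidableEq n] [DecidableEq k]

/-- Equivalence of idempotent matrices. -/
def Eqv (e : Matrix m m R) (f : Matrix n n R) : Prop :=
  ∃ (u : Matrix m n R) (v : Matrix n m R), u * v = e ∧ v * u = f

theorem Eqv.symm {e : Matrix m m R} {f : Matrix n n R} (h : Eqv e f) : Eqv f e := by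
  obtain ⟨u, v, h1, h2⟩ := h
  exact ⟨v, u, h2, h1⟩

theorem Eqv.trans {e : Matrix m m R} {f : Matrix n n R} {g : Matrix k k R} (he : e * e = e) (hg : g * g = g)
    (h : Eqv e f) (h' : Eqv f g) : Eqv e g := by
  obtain ⟨u, v, h1, h2⟩ := h
  obtain ⟨u', v', h3, h4⟩ := h'
  refine ⟨u * u', v' * v, ?_, ?_⟩
  · rw [← Matrix.mul_assoc, Matrix.mul_assoc u, h3, ← h2, ← Matrix.mul_assoc, h1, Matrix.mul_assoc, h1, he]
  · rw [← Matrix.mul_assoc, Matrix.mul_assoc v', h2, ← h3, ← Matrix.mul_assoc, h4, Matrix.mul_assoc, h4, hg]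

theorem Eqv.map {S : Type v} [CommRing S] (φ : R →+* S) {e : Matrix m m R} {f : Matrix n n R} (h : Eqv e f) :
    Eqv (e.map φ) (f.map φ) := by
  obtain ⟨u, v, h1, h2⟩ := h
  exact ⟨u.map φ, v.map φ, by rw [← Matrix.map_mul, h1], by rw [← Matrix.map_mul, h2]⟩

theorem idem_map {S : Type v} [CommRing S] (φ : R →+* S) {e : Matrix m m R} (he : e * e = e) :
    e.map φ * e.map φ = e.map φ := by rw [← Matrix.map_mul, he]

theorem Eqv.normal {e : Matrix m m R} {f : Matrix n n R} (he : e * e = e) (hf : f * f = f) (h : Eqv e f) :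
    ∃ (u : Matrix m n R) (v : Matrix n m R),
      u * v = e ∧ v * u = f ∧ e * u = u ∧ u * f = u ∧ f * v = v ∧ v * e = v := by
  obtain ⟨u, v, h1, h2⟩ := h
  have e1 : u * f = e * u := by rw [← h2, ← Matrix.mul_assoc, h1]
  have e2 : v * e = f * v := by rw [← h1, ← Matrix.mul_assoc, h2]
  refine ⟨u * f, v * e, ?_, ?_, ?_, ?_, ?_, ?_⟩
  · rw [e1, Matrix.mul_assoc e, ← Matrix.mul_assoc u, h1, he, he]
  · rw [e2, Matrix.mul_assoc f, ← Matrix.mul_assoc v, h2, hf, hf]
  · rw [e1, ← Matrix.mul_assoc, he]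
  · rw [Matrix.mul_assoc, hf]
  · rw [e2, ← Matrix.mul_assoc, hf]
  · rw [Matrix.mul_assoc, he]

variable {M : Type w} [AddCommGroup M] [Module R M]

/-- `M` is the image of the idempotent `e`. -/
structure Pres (e : Matrix n n R) (M : Type w) [AddCommGroup M] [Module R M] where
  ι : M →ₗ[R] (n → R)
  π : (n → R) →ₗ[R] M
  π_ι : ∀ x, π (ι x) = x
  ι_π : ∀ y, ι (π y) = e.mulVec y

theorem Pres.idem {e : Matrix n n R} (P : Pres e M) : e * e = e := by
  refine Matrix.ext_of_mulVec_single fun i => ?_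
  rw [← Matrix.mulVec_mulVec, ← P.ι_π, ← P.ι_π, P.π_ι]

theorem exists_pres [Module.Finite R M] [Module.Projective R M] :
    ∃ (n : ℕ) (e : Matrix (Fin n) (Fin n) R), Nonempty (Pres e M) := by
  obtain ⟨n, π, hπ⟩ := Module.Finite.exists_fin' R M
  obtain ⟨ι, hι⟩ := Module.projective_lifting_property π LinearMap.id hπ
  exact ⟨n, LinearMap.toMatrix' (ι ∘ₗ π), ⟨ι, π, fun x => LinearMap.congr_fun hι x,
    fun y => by rw [LinearMap.toMatrix'_mulVec]; rfl⟩⟩

/-- Transport along an isomorphism. -/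
noncomputable def Pres.ofEquiv {e : Matrix n n R} {M' : Type*} [AddCommGroup M'] [Module R M'] (P : Pres e M)
    (φ : M ≃ₗ[R] M') : Pres e M' where
  ι := P.ι ∘ₗ φ.symm.toLinearMap
  π := φ.toLinearMap ∘ₗ P.π
  π_ι x := by simp [P.π_ι]
  ι_π y := by simp [P.ι_π]

/-- The range of an idempotent. -/
noncomputable def presRange {e : Matrix n n R} (he : e * e = e) : Pres e (LinearMap.range e.mulVecLin) where
  ι := (LinearMap.range e.mulVecLin).subtype
  π := e.mulVecLin.rangeRestrict
  π_ι x := by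
    obtain ⟨_, y, rfl⟩ := x
    refine Subtype.ext ?_
    change e.mulVec (e.mulVec y) = e.mulVec y
    rw [Matrix.mulVec_mulVec, he]
  ι_π y := rfl

theorem Pres.finite {e : Matrix n n R} (P : Pres e M) : Module.Finite R M :=
  Module.Finite.of_surjective P.π fun x => ⟨P.ι x, P.π_ι x⟩

theorem Pres.projective {e : Matrix n n R} (P : Pres e M) : Module.Projective R M :=
  Module.Projective.of_split P.ι P.π (LinearMap.ext P.π_ι)

theorem Pres.eqv {e : Matrix n n R} {f : Matrix k k R} {M' : Type*} [AddCommGroup M'] [Module R M']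
    (P : Pres e M) (P' : Pres f M') (φ : M ≃ₗ[R] M') : Eqv e f := by
  refine ⟨LinearMap.toMatrix' (P.ι ∘ₗ φ.symm.toLinearMap ∘ₗ P'.π),
    LinearMap.toMatrix' (P'.ι ∘ₗ φ.toLinearMap ∘ₗ P.π), ?_, ?_⟩
  · refine Matrix.ext_of_mulVec_single fun i => ?_
    rw [← Matrix.mulVec_mulVec, LinearMap.toMatrix'_mulVec, LinearMap.toMatrix'_mulVec, ← P.ι_π]
    simp [P'.π_ι]
  · refine Matrix.ext_of_mulVec_single fun i => ?_
    rw [← Matrix.mulVec_mulVec, LinearMap.toMatrix'_mulVec, LinearMap.toMatrix'_mulVec, ← P'.ι_π]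
    simp [P.π_ι]

theorem Pres.nonempty_equiv {e : Matrix n n R} {f : Matrix k k R} {M' : Type*} [AddCommGroup M'] [Module R M']
    (P : Pres e M) (P' : Pres f M') (h : Eqv e f) : Nonempty (M ≃ₗ[R] M') := by
  obtain ⟨u, v, h1, h2, h3, -, h5, -⟩ := h.normal P.idem P'.idem
  refine ⟨LinearEquiv.ofLinear (P'.π ∘ₗ v.mulVecLin ∘ₗ P.ι) (P.π ∘ₗ u.mulVecLin ∘ₗ P'.ι) ?_ ?_⟩
  · refine LinearMap.ext fun x => ?_
    simp only [LinearMap.comp_apply, Matrix.mulVecLin_apply, LinearMap.id_apply, P.ι_π, Matrix.mulVec_mulVec,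
      Matrix.mul_assoc, h3, h2]
    rw [← P'.ι_π, P'.π_ι, P'.π_ι]
  · refine LinearMap.ext fun x => ?_
    simp only [LinearMap.comp_apply, Matrix.mulVecLin_apply, LinearMap.id_apply, P'.ι_π, Matrix.mulVec_mulVec,
      Matrix.mul_assoc, h5, h1]
    rw [← P.ι_π, P.π_ι, P.π_ι]

/-- Base change. -/
noncomputable def Pres.baseChange (S : Type v) [CommRing S] [Algebra R S] {e : Matrix n n R} (P : Pres e M) :
    Pres (e.map (algebraMap R S)) (S ⊗[R] M) where
  ι := (TensorProduct.piScalarRight R S S n).toLinearMap ∘ₗ P.ι.baseChange S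
  π := P.π.baseChange S ∘ₗ (TensorProduct.piScalarRight R S S n).symm.toLinearMap
  π_ι x := by
    simp only [LinearMap.comp_apply, LinearEquiv.coe_coe, LinearEquiv.symm_apply_apply]
    rw [← LinearMap.comp_apply, ← LinearMap.baseChange_comp,
      show P.π ∘ₗ P.ι = LinearMap.id from LinearMap.ext P.π_ι, LinearMap.baseChange_id]
    rfl
  ι_π y := by
    obtain ⟨z, rfl⟩ := (TensorProduct.piScalarRight R S S n).surjective y
    simp only [LinearMap.comp_apply, LinearEquiv.coe_coe, LinearEquiv.symm_apply_apply]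
    induction z with
    | zero => simp
    | add a b ha hb => simp only [map_add, Matrix.mulVec_add, ha, hb]
    | tmul s x =>
      rw [LinearMap.baseChange_tmul, LinearMap.baseChange_tmul, P.ι_π]
      ext i
      simp [TensorProduct.piScalarRight_apply, Matrix.mulVec, dotProduct, Algebra.smul_def, Finset.sum_mul,
        mul_assoc]

/-- An idempotent with free image is equivalent to an identity matrix. -/
theorem exists_eqv_one [Nontrivial R] {e : Matrix n n R} (he : e * e = e)
    [Module.Free R (LinearMap.range e.mulVecLin)] :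
    ∃ r : ℕ, Eqv e (1 : Matrix (Fin r) (Fin r) R) := by
  haveI := (presRange he).finite
  let b := Module.finBasis R (LinearMap.range e.mulVecLin)
  let P1 : Pres (1 : Matrix (Fin (Module.finrank R (LinearMap.range e.mulVecLin))) _ R) (LinearMap.range e.mulVecLin) :=
    { ι := b.equivFun.toLinearMap, π := b.equivFun.symm.toLinearMap,
      π_ι := fun x => b.equivFun.symm_apply_apply x,
      ι_π := fun y => by rw [Matrix.one_mulVec]; exact b.equivFun.apply_symm_apply y }
  exact ⟨_, (presRange he).eqv P1 (LinearEquiv.refl R _)⟩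

theorem exists_eqv_one_of_isLocalRing [IsLocalRing R] {e : Matrix n n R} (he : e * e = e) :
    ∃ r : ℕ, Eqv e (1 : Matrix (Fin r) (Fin r) R) := by
  haveI := (presRange he).finite
  haveI := (presRange he).projective
  haveI : Module.Free R (LinearMap.range e.mulVecLin) := Module.free_of_flat_of_isLocalRing
  exact exists_eqv_one he

theorem eq_card_of_eqv_one [Nontrivial R] {r r' : ℕ}
    (h : Eqv (1 : Matrix (Fin r) (Fin r) R) (1 : Matrix (Fin r') (Fin r') R)) : r = r' := by
  obtain ⟨u, v, h1, h2⟩ := h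
  let φ : (Fin r' → R) ≃ₗ[R] (Fin r → R) := LinearEquiv.ofLinear u.mulVecLin v.mulVecLin
    (LinearMap.ext fun x => by simp [Matrix.mulVec_mulVec, h1])
    (LinearMap.ext fun x => by simp [Matrix.mulVec_mulVec, h2])
  simpa using φ.finrank_eq.symm

section Clear

variable {S : Type v} [CommRing S] [Algebra R S] (T : Submonoid R) [IsLocalization T S]
variable {a b : Type*} [Fintype a] [Fintype b]

theorem exists_num (u : Matrix a b S) : ∃ (t : T) (P : Matrix a b R), P.map (algebraMap R S) = (t : R) • u := by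
  obtain ⟨t, ht⟩ := IsLocalization.exist_integer_multiples_of_finite T fun p : a × b => u p.1 p.2
  choose P hP using fun i j => ht (i, j)
  exact ⟨t, Matrix.of P, by ext i j; exact hP i j⟩

theorem exists_smul_eq (X Y : Matrix a b R) (h : X.map (algebraMap R S) = Y.map (algebraMap R S)) :
    ∃ c : T, (c : R) • X = (c : R) • Y := by
  classical
  choose c hc using fun p : a × b => (IsLocalization.eq_iff_exists T S).1 (congrFun (congrFun h p.1) p.2)
  refine ⟨∏ p, c p, ?_⟩
  ext i j
  simp only [Matrix.smul_apply, smul_eq_mul, Submonoid.coe_finset_prod]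
  rw [← Finset.prod_erase_mul _ _ (Finset.mem_univ (i, j)), mul_assoc, mul_assoc, hc (i, j)]

theorem Eqv.exists_clear {e : Matrix m m R} {f : Matrix n n R}
    (h : Eqv (e.map (algebraMap R S)) (f.map (algebraMap R S))) :
    ∃ t ∈ T, ∃ (P : Matrix m n R) (Q : Matrix n m R), P * Q = t • e ∧ Q * P = t • f := by
  obtain ⟨u, v, h1, h2⟩ := h
  obtain ⟨s, P, hP⟩ := exists_num T u
  obtain ⟨t, Q, hQ⟩ := exists_num T v
  have e1 : (P * Q).map (algebraMap R S) = (((s : R) * t) • e).map (algebraMap R S) := by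
    rw [Matrix.map_mul, hP, hQ, Matrix.smul_mul, Matrix.mul_smul, h1, smul_smul]
    ext i j
    simp only [Matrix.smul_apply, Matrix.map_apply, smul_eq_mul]
    rw [Algebra.smul_def, map_mul, map_mul, map_mul]
  have e2 : (Q * P).map (algebraMap R S) = (((s : R) * t) • f).map (algebraMap R S) := by
    rw [Matrix.map_mul, hP, hQ, Matrix.smul_mul, Matrix.mul_smul, h2, smul_smul]
    ext i j
    simp only [Matrix.smul_apply, Matrix.map_apply, smul_eq_mul]
    rw [Algebra.smul_def, map_mul, map_mul, map_mul]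
    ring
  obtain ⟨c₁, hc₁⟩ := exists_smul_eq T _ _ e1
  obtain ⟨c₂, hc₂⟩ := exists_smul_eq T _ _ e2
  refine ⟨(c₁ : R) * c₂ * (s * t), mul_mem (mul_mem c₁.2 c₂.2) (mul_mem s.2 t.2),
    (c₁ : R) • P, (c₂ : R) • Q, ?_, ?_⟩
  · rw [Matrix.smul_mul, Matrix.mul_smul, smul_comm, hc₁, smul_smul, smul_smul]
    congr 1; ring
  · rw [Matrix.smul_mul, Matrix.mul_smul, smul_comm, hc₂, smul_smul, smul_smul]

end Clear

end Groth.Agent.HorrocksLib
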