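import Groth.Agent.HorrocksLib.Idem
import Mathlib.RingTheory.Polynomial.Basic
import Mathlib.Algebra.Polynomial.Div
import Mathlib.Algebra.Polynomial.Lifts
import Mathlib.Algebra.Polynomial.FieldDivision
import Mathlib.Algebra.Polynomial.Monic
import Mathlib.RingTheory.LocalRing.ResidueField.Basic
import Mathlib.RingTheory.Localization.FractionRing
import Mathlib.LinearAlgebra.Matrix.Transvection
import Mathlib.LinearAlgebra.Matrix.NonsingularInverse
import Mathlib.LinearAlgebra.FreeModule.PID
import Mathlib.RingTheory.Nakayama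
import Mathlib.RingTheory.Ideal.Quotient.Operations

/-! Horrocks' theorem over a local ring, affine form. -/

set_option autoImplicit false
set_option linter.style.haveILetI false
open Matrix Polynomial

universe u v

namespace Groth.Agent.HorrocksLib

variable {L : Type u} [CommRing L] [IsLocalRing L]

/-- Monic polynomials. -/
def monics (L : Type u) [CommRing L] : Submonoid L[X] where
  carrier := {q | q.Monic}
  mul_mem' := fun ha hb => Polynomial.Monic.mul ha hb
  one_mem' := Polynomial.monic_one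

/-- The localisation at the monic polynomials. -/
abbrev B (L : Type u) [CommRing L] : Type u := Localization (monics L)

/-- The residue map. -/
noncomputable abbrev res (L : Type u) [CommRing L] [IsLocalRing L] : L[X] →+* (IsLocalRing.ResidueField L)[X] :=
  Polynomial.mapRingHom (IsLocalRing.residue L)

/-- The rational functions over the residue field. -/
abbrev K (L : Type u) [CommRing L] [IsLocalRing L] : Type u :=
  FractionRing (IsLocalRing.ResidueField L)[X]

theorem isUnit_res (q : monics L) :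
    IsUnit ((algebraMap (IsLocalRing.ResidueField L)[X] (K L)).comp (res L) q) := by
  refine IsUnit.mk0 _ ?_
  rw [RingHom.comp_apply, map_ne_zero_iff _ (IsFractionRing.injective _ _)]
  exact (Polynomial.Monic.map _ q.2).ne_zero

/-- `π : B → K`. -/
noncomputable def π (L : Type u) [CommRing L] [IsLocalRing L] : B L →+* K L :=
  IsLocalization.lift (M := monics L) (S := B L) (g := (algebraMap _ (K L)).comp (res L)) isUnit_res

theorem π_alg (p : L[X]) : π L (algebraMap L[X] (B L) p) = algebraMap _ (K L) (res L p) :=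
  IsLocalization.lift_eq _ p

theorem π_L {a : L} (ha : a ∈ IsLocalRing.maximalIdeal L) : π L (algebraMap L (B L) a) = 0 := by
  rw [IsScalarTower.algebraMap_apply L L[X] (B L), π_alg, ← Polynomial.C_eq_algebraMap]
  simp [(IsLocalRing.residue_eq_zero_iff a).2 ha]

theorem alg_injective : Function.Injective (algebraMap L[X] (B L)) :=
  IsLocalization.injective (B L) (M := monics L) fun q hq => (Polynomial.Monic.mem_nonZeroDivisors hq)

theorem map_alg_injective {a c : Type*} {X Y : Matrix a c L[X]}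
    (h : X.map (algebraMap L[X] (B L)) = Y.map (algebraMap L[X] (B L))) : X = Y :=
  Matrix.ext fun x y => alg_injective (congrFun (congrFun h x) y)

theorem exists_unit_lift (y : K L) (hy : y ≠ 0) : ∃ x : (B L)ˣ, π L x = y := by
  have key : ∀ p : (IsLocalRing.ResidueField L)[X], p ≠ 0 →
      ∃ x : (B L)ˣ, π L x = algebraMap _ (K L) p := by
    intro p hp
    obtain ⟨c, hc⟩ := IsLocalRing.residue_surjective p.leadingCoeff
    have hcu : IsUnit c := by
      rw [← IsLocalRing.residue_ne_zero_iff_isUnit, hc]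
      exact Polynomial.leadingCoeff_ne_zero.2 hp
    obtain ⟨q, hq, -, hqm⟩ := Polynomial.lifts_and_natDegree_eq_and_monic
      (f := IsLocalRing.residue L) (p := p * Polynomial.C p.leadingCoeff⁻¹)
      ((Polynomial.lifts_iff_coeffs_subset_range _).2 fun x _ => IsLocalRing.residue_surjective x |>.imp fun _ h => h)
      (Polynomial.monic_mul_leadingCoeff_inv hp)
    refine ⟨(((Polynomial.isUnit_C.2 hcu).map (algebraMap L[X] (B L))).mul
      (IsLocalization.map_units (B L) (⟨q, hqm⟩ : monics L))).unit, ?_⟩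
    rw [IsUnit.unit_spec, map_mul, π_alg, π_alg, ← map_mul]
    simp only [res, Polynomial.coe_mapRingHom, Polynomial.map_C, hc, hq]
    congr 1
    rw [mul_left_comm, ← map_mul, mul_inv_cancel₀ (Polynomial.leadingCoeff_ne_zero.2 hp), map_one, mul_one]
  obtain ⟨p, q, hq, rfl⟩ := IsFractionRing.div_surjective (IsLocalRing.ResidueField L)[X] y
  have hq0 : q ≠ 0 := nonZeroDivisors.ne_zero hq
  have hp0 : p ≠ 0 := by rintro rfl; simp at hy
  obtain ⟨x, hx⟩ := key p hp0
  obtain ⟨z, hz⟩ := key q hq0
  exact ⟨x * z⁻¹, by rw [Units.val_mul, map_mul, hx, map_units_inv, hz, div_eq_mul_inv]⟩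

theorem π_surjective : Function.Surjective (π L) := by
  intro y
  by_cases hy : y = 0
  · exact ⟨0, by rw [map_zero, hy]⟩
  · obtain ⟨x, hx⟩ := exists_unit_lift y hy
    exact ⟨x, hx⟩

theorem exists_inv_lift {r : ℕ} (c : Matrix (Fin r) (Fin r) (K L)) (hc : c.det ≠ 0) :
    ∃ C C' : Matrix (Fin r) (Fin r) (B L), C * C' = 1 ∧ C' * C = 1 ∧ C.map (π L) = c := by
  refine Matrix.diagonal_transvection_induction_of_det_ne_zero
    (fun c => ∃ C C' : Matrix (Fin r) (Fin r) (B L), C * C' = 1 ∧ C' * C = 1 ∧ C.map (π L) = c) c hc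
    (fun D hD => ?_) (fun t => ?_) (fun X Y _ _ hX hY => ?_)
  ·
    rw [Matrix.det_diagonal] at hD
    choose x hx using fun i => exists_unit_lift (D i) (Finset.prod_ne_zero_iff.1 hD i (Finset.mem_univ i))
    refine ⟨Matrix.diagonal fun i => (x i : B L), Matrix.diagonal fun i => ((x i)⁻¹ : (B L)ˣ), ?_, ?_, ?_⟩
    · simp [Matrix.diagonal_mul_diagonal]
    · simp [Matrix.diagonal_mul_diagonal]
    · rw [Matrix.diagonal_map (map_zero _)]
      exact congrArg Matrix.diagonal (funext hx)
  ·
    obtain ⟨i, j, hij, c⟩ := t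
    obtain ⟨c, rfl⟩ := π_surjective c
    refine ⟨(⟨i, j, hij, c⟩ : Matrix.TransvectionStruct _ _).toMatrix,
      (⟨i, j, hij, c⟩ : Matrix.TransvectionStruct _ _).inv.toMatrix,
      Matrix.TransvectionStruct.mul_inv _, Matrix.TransvectionStruct.inv_mul _, ?_⟩
    ext a b
    simp [Matrix.TransvectionStruct.toMatrix_mk, Matrix.transvection, Matrix.single_apply, Matrix.one_apply]
    split_ifs <;> simp_all
  ·
    obtain ⟨C, C', h1, h2, rfl⟩ := hX
    obtain ⟨D, D', h3, h4, rfl⟩ := hY
    refine ⟨C * D, D' * C', ?_, ?_, Matrix.map_mul⟩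
    · rw [Matrix.mul_assoc, ← Matrix.mul_assoc D, h3, Matrix.one_mul, h1]
    · rw [Matrix.mul_assoc, ← Matrix.mul_assoc C', h2, Matrix.one_mul, h4]

/-- The local ring at infinity. -/
def O (L : Type u) [CommRing L] : Subalgebra L (B L) where
  carrier := {x | ∃ p q : L[X], q.Monic ∧ p.natDegree ≤ q.natDegree ∧
    x * algebraMap L[X] (B L) q = algebraMap L[X] (B L) p}
  mul_mem' := by
    rintro x y ⟨p, q, hq, hd, h⟩ ⟨p', q', hq', hd', h'⟩
    refine ⟨p * p', q * q', hq.mul hq', ?_, ?_⟩
    · rw [hq.natDegree_mul hq']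
      exact Polynomial.natDegree_mul_le.trans (add_le_add hd hd')
    · rw [map_mul, map_mul, ← h, ← h']; ring
  one_mem' := ⟨1, 1, Polynomial.monic_one, le_rfl, by simp⟩
  zero_mem' := ⟨0, 1, Polynomial.monic_one, by simp, by simp⟩
  add_mem' := by
    rintro x y ⟨p, q, hq, hd, h⟩ ⟨p', q', hq', hd', h'⟩
    refine ⟨p * q' + p' * q, q * q', hq.mul hq', ?_, ?_⟩
    · rw [hq.natDegree_mul hq']
      refine (Polynomial.natDegree_add_le _ _).trans (max_le ?_ ?_)
      · exact Polynomial.natDegree_mul_le.trans (add_le_add hd le_rfl)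
      · rw [add_comm]; exact Polynomial.natDegree_mul_le.trans (add_le_add hd' le_rfl)
    · rw [map_add, map_mul, map_mul, map_mul, ← h, ← h']; ring
  algebraMap_mem' a := by
    refine ⟨Polynomial.C a, 1, Polynomial.monic_one, by simp, ?_⟩
    rw [map_one, mul_one, IsScalarTower.algebraMap_apply L L[X] (B L), Polynomial.C_eq_algebraMap]

theorem exists_eq_add (a : B L) : ∃ (s : L[X]) (o : O L), a = algebraMap L[X] (B L) s + o := by
  obtain ⟨⟨p, q, hq⟩, h⟩ := IsLocalization.surj (monics L) a
  change a * algebraMap L[X] (B L) q = algebraMap L[X] (B L) p at h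
  refine ⟨p /ₘ q, ⟨a - algebraMap L[X] (B L) (p /ₘ q), p %ₘ q, q, hq, ?_, ?_⟩, (add_sub_cancel _ _).symm⟩
  · exact Polynomial.natDegree_modByMonic_le p hq
  · rw [sub_mul, h, ← map_mul, ← map_sub]
    congr 1
    rw [sub_eq_iff_eq_add, mul_comm]
    exact (Polynomial.modByMonic_add_div p q).symm

theorem mem_max_smul_of_res {p : L[X]} (hp : res L p = 0) :
    p ∈ (IsLocalRing.maximalIdeal L • ⊤ : Submodule L L[X]) := by
  rw [p.as_sum_range_C_mul_X_pow]
  refine Submodule.sum_mem _ fun i _ => ?_
  rw [← Polynomial.smul_eq_C_mul]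
  refine Submodule.smul_mem_smul ?_ Submodule.mem_top
  rw [← IsLocalRing.residue_eq_zero_iff]
  have h := congrArg (fun f => Polynomial.coeff f i) hp
  simpa using h

theorem mem_max_smul_of_π {y : B L} (hy : π L y = 0) :
    y ∈ (IsLocalRing.maximalIdeal L • ⊤ : Submodule L (B L)) := by
  obtain ⟨⟨p, q⟩, h⟩ := IsLocalization.surj (monics L) y
  have hp : res L p = 0 := by
    apply IsFractionRing.injective (IsLocalRing.ResidueField L)[X] (K L)
    rw [← π_alg, ← h, map_mul, hy, zero_mul, map_zero]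
  let g : L[X] →ₗ[L] B L :=
    (LinearMap.mulRight L (↑(IsLocalization.map_units (B L) q).unit⁻¹ : B L)).comp
      (IsScalarTower.toAlgHom L L[X] (B L)).toLinearMap
  have h1 : g p ∈ Submodule.map g (IsLocalRing.maximalIdeal L • ⊤) := ⟨p, mem_max_smul_of_res hp, rfl⟩
  rw [Submodule.map_smul''] at h1
  have h2 : g p = y := by
    change algebraMap L[X] (B L) p * _ = y
    rw [← h, mul_assoc, IsUnit.mul_val_inv, mul_one]
  rw [← h2]
  exact Submodule.smul_mono le_rfl le_top h1

theorem vec_mem_range {m : Type*} [Fintype m] [DecidableEq m] {V : Type*} [AddCommGroup V] [Module L V]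
    (E : (m → V) →ₗ[L] (m → V)) (x : m → V) (hEx : E x = x)
    (hx : ∀ l, x l ∈ (IsLocalRing.maximalIdeal L • ⊤ : Submodule L V)) :
    x ∈ IsLocalRing.maximalIdeal L • LinearMap.range E := by
  have h1 : x ∈ (IsLocalRing.maximalIdeal L • ⊤ : Submodule L (m → V)) := by
    rw [← Finset.univ_sum_single x]
    refine Submodule.sum_mem _ fun l _ => ?_
    have h2 : LinearMap.single L (fun _ => V) l (x l) ∈
        Submodule.map (LinearMap.single L (fun _ => V) l) (IsLocalRing.maximalIdeal L • ⊤) := ⟨_, hx l, rfl⟩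
    rw [Submodule.map_smul''] at h2
    exact Submodule.smul_mono le_rfl le_top h2
  have h3 : E x ∈ Submodule.map E (IsLocalRing.maximalIdeal L • ⊤) := ⟨x, h1, rfl⟩
  rwa [Submodule.map_smul'', Submodule.map_top, hEx] at h3

theorem le_of_finite_generated {V : Type*} [AddCommGroup V] [Module L V] (T S F : Submodule L V)
    (hF : F.FG) (hFT : F ≤ T) (hT : T ≤ S ⊔ F) (hTm : T ≤ S ⊔ IsLocalRing.maximalIdeal L • T) : T ≤ S := by
  refine hT.trans (sup_le le_rfl (Submodule.le_of_le_smul_of_le_jacobson_bot hF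
    (IsLocalRing.maximalIdeal_le_jacobson _) (hFT.trans (hTm.trans (sup_le le_sup_left ?_)))))
  refine (Submodule.smul_mono le_rfl hT).trans ?_
  rw [Submodule.smul_sup]
  exact sup_le (Submodule.smul_le_right.trans le_sup_left) le_sup_right

variable {m : Type*} [Fintype m] [DecidableEq m]

theorem exists_basis_lift {r : ℕ} {e : Matrix m m L[X]} (he : e * e = e) {F : L[X]} (hF : F.Monic)
    (P : Matrix m (Fin r) L[X]) (Q : Matrix (Fin r) m L[X]) (hPQ : P * Q = F • e) (hQP : Q * P = F • 1) :
    ∃ (W₀ : Matrix m (Fin r) L[X]) (v₀ : Matrix (Fin r) m L[X]) (b : Matrix m (Fin r) (B L))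
      (b' : Matrix (Fin r) m (B L)), e * W₀ = W₀ ∧ (W₀ * v₀).map (res L) = e.map (res L) ∧
      (v₀ * W₀).map (res L) = 1 ∧ b * b' = e.map (algebraMap L[X] (B L)) ∧ b' * b = 1 ∧
      b.map (π L) = (W₀.map (res L)).map (algebraMap _ (K L)) := by
  classical
  set ι := algebraMap L[X] (B L) with hι
  set j := algebraMap (IsLocalRing.ResidueField L)[X] (K L) with hj
  have hπι : ∀ {a c : Type _} (X : Matrix a c L[X]), (X.map ι).map (π L) = (X.map (res L)).map j := fun X => by
    ext x y; exact π_alg _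
  obtain ⟨Fi, hFi⟩ := (IsLocalization.map_units (B L) (⟨F, hF⟩ : monics L)).exists_left_inv
  have hB : Eqv (e.map ι) (1 : Matrix (Fin r) (Fin r) (B L)) := by
    refine ⟨Fi • P.map ι, Q.map ι, ?_, ?_⟩
    · rw [Matrix.smul_mul, ← Matrix.map_mul, hPQ]
      ext x y
      simp only [Matrix.smul_apply, Matrix.map_apply, smul_eq_mul, map_mul]
      rw [← mul_assoc, hFi, one_mul]
    · rw [Matrix.mul_smul, ← Matrix.map_mul, hQP]
      ext x y
      simp only [Matrix.smul_apply, Matrix.map_apply, smul_eq_mul, map_mul]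
      rw [← mul_assoc, hFi, one_mul]
      by_cases hxy : x = y <;> simp [Matrix.one_apply, hxy]
  obtain ⟨b, b', hb1, hb2, -, -, -, hb6⟩ := hB.normal (idem_map ι he) (one_mul _)
  haveI : Module.Finite (IsLocalRing.ResidueField L)[X] (LinearMap.range (e.map (res L)).mulVecLin) :=
    (presRange (idem_map (res L) he)).finite
  haveI : Module.Free (IsLocalRing.ResidueField L)[X] (LinearMap.range (e.map (res L)).mulVecLin) := inferInstance
  obtain ⟨r', hr'⟩ := exists_eqv_one (idem_map (res L) he)
  have hKe : Eqv ((e.map (res L)).map j) (1 : Matrix (Fin r) (Fin r) (K L)) := by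
    have := Eqv.map (π L) (show Eqv (e.map ι) (1 : Matrix (Fin r) (Fin r) (B L)) from ⟨b, b', hb1, hb2⟩)
    rwa [hπι, Matrix.map_one _ (map_zero _) (map_one _)] at this
  obtain rfl : r = r' := by
    have h1 := hr'.map j
    rw [Matrix.map_one _ (map_zero _) (map_one _)] at h1
    exact eq_card_of_eqv_one (Eqv.trans (one_mul _) (one_mul _) hKe.symm h1)
  obtain ⟨u₀, w₀, h1, h2, h3, -, -, -⟩ := hr'.normal (idem_map (res L) he) (one_mul _)
  have hsurj : Function.Surjective (res L) := Polynomial.map_surjective _ IsLocalRing.residue_surjective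
  choose W hW using fun x y => hsurj (u₀ x y)
  choose V hV using fun x y => hsurj (w₀ x y)
  have hW' : (e * Matrix.of W).map (res L) = u₀ := by
    rw [Matrix.map_mul, show (Matrix.of W).map (res L) = u₀ from Matrix.ext hW, h3]
  have hV' : (Matrix.of V).map (res L) = w₀ := Matrix.ext hV
  let c : Matrix (Fin r) (Fin r) (K L) := b'.map (π L) * u₀.map j
  have hee : b.map (π L) * b'.map (π L) = (e.map (res L)).map j := by rw [← Matrix.map_mul, hb1, hπι]
  have hc : c.det ≠ 0 := by
    refine (Matrix.isUnit_det_of_left_inverse (B := w₀.map j * b.map (π L)) ?_).ne_zero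
    simp only [c]
    rw [Matrix.mul_assoc, ← Matrix.mul_assoc (b.map (π L)), hee, ← Matrix.map_mul, h3, ← Matrix.map_mul, h2,
      Matrix.map_one _ (map_zero _) (map_one _)]
  obtain ⟨C, C', hC1, hC2, hC3⟩ := exists_inv_lift c hc
  refine ⟨e * Matrix.of W, Matrix.of V, b * C, C' * b', ?_, ?_, ?_, ?_, ?_, ?_⟩
  · rw [← Matrix.mul_assoc, he]
  · rw [Matrix.map_mul, hW', hV', h1]
  · rw [Matrix.map_mul, hW', hV', h2]
  · rw [Matrix.mul_assoc, ← Matrix.mul_assoc C, hC1, Matrix.one_mul, hb1]
  · rw [Matrix.mul_assoc, ← Matrix.mul_assoc b', hb2, Matrix.one_mul, hC2]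
  · rw [Matrix.map_mul, hC3, hW']
    simp only [c]
    rw [← Matrix.mul_assoc, hee, ← Matrix.map_mul, h3]

/-- Affine Horrocks over a local ring. -/
theorem horrocks {r : ℕ} {e : Matrix m m L[X]} (he : e * e = e) {F : L[X]} (hF : F.Monic)
    (P : Matrix m (Fin r) L[X]) (Q : Matrix (Fin r) m L[X]) (hPQ : P * Q = F • e) (hQP : Q * P = F • 1) :
    Eqv e (1 : Matrix (Fin r) (Fin r) L[X]) := by
  classical
  obtain ⟨W₀, v₀, b, b', heW, hWv, hvW, hbb, hb'b, hπb⟩ := exists_basis_lift he hF P Q hPQ hQP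
  set ι := algebraMap L[X] (B L) with hι
  set eB := e.map ι with heB
  have heB' : eB * eB = eB := idem_map ι he
  have heb : eB * b = b := by rw [← hbb, Matrix.mul_assoc, hb'b, Matrix.mul_one]
  -- the gluing map
  let E : (m → B L) →ₗ[L] (m → B L) := eB.mulVecLin.restrictScalars L
  let Φ : ((m → L[X]) × (Fin r → O L)) →ₗ[L] (m → B L) :=
    { toFun := fun z => eB.mulVec (ι ∘ z.1) - b.mulVec (fun i => (z.2 i : B L))
      map_add' := fun z z' => by
        have h1 : ι ∘ (z + z').1 = ι ∘ z.1 + ι ∘ z'.1 := funext fun l => by simp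
        have h2 : (fun i => (((z + z').2 i : O L) : B L)) = (fun i => (z.2 i : B L)) + fun i => (z'.2 i : B L) := rfl
        rw [h1, h2, Matrix.mulVec_add, Matrix.mulVec_add]
        abel
      map_smul' := fun a z => by
        have h1 : ι ∘ (a • z).1 = a • (ι ∘ z.1) := funext fun l => by
          change ι (a • z.1 l) = a • ι (z.1 l)
          exact map_smul (IsScalarTower.toAlgHom L L[X] (B L)) a _
        have h2 : (fun i => (((a • z).2 i : O L) : B L)) = a • fun i => (z.2 i : B L) := rfl
        rw [h1, h2, Matrix.mulVec_smul, Matrix.mulVec_smul, RingHom.id_apply, smul_sub] }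
  let S : Submodule L (m → B L) := LinearMap.range Φ
  have hS₁ : ∀ p : m → L[X], eB.mulVec (ι ∘ p) ∈ S := fun p => ⟨(p, 0), by
    change eB.mulVec (ι ∘ p) - b.mulVec (0 : Fin r → B L) = _
    rw [Matrix.mulVec_zero, sub_zero]⟩
  have hS₂ : ∀ o : Fin r → O L, b.mulVec (fun i => (o i : B L)) ∈ S := fun o => ⟨(0, -o), by
    change eB.mulVec (ι ∘ 0) - b.mulVec (-fun i => (o i : B L)) = _
    rw [show ι ∘ (0 : m → L[X]) = 0 from funext fun l => map_zero ι, Matrix.mulVec_zero, Matrix.mulVec_neg,
      zero_sub, neg_neg]⟩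
  have hdec : ∀ x : m → B L, E x = x →
      ∃ (s : Fin r → L[X]) (o : Fin r → O L), x = b.mulVec (ι ∘ s) + b.mulVec (fun i => (o i : B L)) := by
    intro x hx
    choose s o h using fun i => exists_eq_add ((b'.mulVec x) i)
    refine ⟨s, o, ?_⟩
    rw [← Matrix.mulVec_add, show (ι ∘ s + fun i => (o i : B L)) = b'.mulVec x from funext fun i => (h i).symm,
      Matrix.mulVec_mulVec, hbb]
    exact hx.symm
  have hEx : ∀ x ∈ LinearMap.range E, E x = x := by
    rintro _ ⟨y, rfl⟩
    change eB.mulVec (eB.mulVec y) = eB.mulVec y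
    rw [Matrix.mulVec_mulVec, heB']
  obtain ⟨q, P₁, hP₁⟩ := exists_num (monics L) b
  let Fs : Submodule L (m → B L) :=
    Submodule.span L (Set.range fun p : Fin q.1.natDegree × Fin r => fun l => ι (X ^ (p.1 : ℕ)) * b l p.2)
  have hFT : Fs ≤ LinearMap.range E := by
    rw [Submodule.span_le]
    rintro _ ⟨p, rfl⟩
    refine ⟨fun l => ι (X ^ (p.1 : ℕ)) * b l p.2, funext fun l => ?_⟩
    change ∑ l', eB l l' * (ι (X ^ (p.1 : ℕ)) * b l' p.2) = _
    change _ = ι (X ^ (p.1 : ℕ)) * b l p.2
    conv_rhs => rw [← heb, Matrix.mul_apply, Finset.mul_sum]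
    exact Finset.sum_congr rfl fun l' _ => by ring
  have hgen : LinearMap.range E ≤ S := by
    refine le_of_finite_generated _ S Fs (Submodule.fg_span (Set.finite_range _)) hFT ?_ ?_
    · intro x hx
      obtain ⟨s, o, rfl⟩ := hdec x (hEx x hx)
      refine add_mem ?_ (Submodule.mem_sup_left (hS₂ o))
      have hs : b.mulVec (ι ∘ s) = eB.mulVec (ι ∘ P₁.mulVec fun i => s i /ₘ q.1) +
          b.mulVec (ι ∘ fun i => s i %ₘ q.1) := by
        have h1 : ι ∘ P₁.mulVec (fun i => s i /ₘ q.1) = (P₁.map ι).mulVec (ι ∘ fun i => s i /ₘ q.1) :=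
          funext fun l => RingHom.map_mulVec ι _ _ l
        have h2 : (ι ∘ s) = ι q.1 • (ι ∘ fun i => s i /ₘ q.1) + ι ∘ fun i => s i %ₘ q.1 := funext fun i => by
          simp only [Function.comp_apply, Pi.add_apply, Pi.smul_apply, smul_eq_mul, ← map_mul, ← map_add]
          rw [add_comm, Polynomial.modByMonic_add_div]
        rw [h1, h2, Matrix.mulVec_add, hP₁, Matrix.mulVec_smul, Matrix.smul_mulVec, Matrix.mulVec_smul,
          Matrix.mulVec_mulVec, heb, algebraMap_smul]
      rw [hs]
      refine add_mem (Submodule.mem_sup_left (hS₁ _)) (Submodule.mem_sup_right ?_)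
      have h3 : b.mulVec (ι ∘ fun i => s i %ₘ q.1) =
          ∑ i, ∑ k : Fin q.1.natDegree, (s i %ₘ q.1).coeff k • fun l => ι (X ^ (k : ℕ)) * b l i := by
        ext l
        simp only [Matrix.mulVec, dotProduct, Function.comp_apply, Finset.sum_apply, Pi.smul_apply]
        refine Finset.sum_congr rfl fun i _ => ?_
        by_cases hq0 : q.1 = 1
        · simp [hq0, Polynomial.modByMonic_one]
        conv_lhs => rw [(s i %ₘ q.1).as_sum_range' _ (Polynomial.natDegree_modByMonic_lt (s i) q.2 hq0),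
          map_sum, Finset.mul_sum, ← Fin.sum_univ_eq_sum_range]
        refine Finset.sum_congr rfl fun k _ => ?_
        rw [← Polynomial.smul_X_eq_monomial, Algebra.smul_def, Algebra.smul_def, map_mul,
          IsScalarTower.algebraMap_apply L L[X] (B L)]
        ring
      rw [h3]
      exact Submodule.sum_mem _ fun i _ => Submodule.sum_mem _ fun k _ =>
        Submodule.smul_mem _ _ (Submodule.subset_span ⟨(k, i), rfl⟩)
    · intro x hx
      obtain ⟨s, o, rfl⟩ := hdec x (hEx x hx)
      refine add_mem ?_ (Submodule.mem_sup_left (hS₂ o))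
      rw [← sub_add_cancel (b.mulVec (ι ∘ s)) ((W₀.map ι).mulVec (ι ∘ s)), add_comm]
      refine add_mem (Submodule.mem_sup_left ?_) (Submodule.mem_sup_right ?_)
      · convert hS₁ (W₀.mulVec s) using 1
        rw [show ι ∘ W₀.mulVec s = (W₀.map ι).mulVec (ι ∘ s) from funext fun l => RingHom.map_mulVec ι _ _ l,
          Matrix.mulVec_mulVec, heB, ← Matrix.map_mul, heW]
      · refine vec_mem_range E _ ?_ fun l => mem_max_smul_of_π ?_
        · change eB.mulVec _ = _
          rw [Matrix.mulVec_sub, Matrix.mulVec_mulVec, Matrix.mulVec_mulVec, heb, heB, ← Matrix.map_mul, heW]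
        · rw [Pi.sub_apply, map_sub, RingHom.map_mulVec, RingHom.map_mulVec, hπb, sub_eq_zero]
          rw [show (W₀.map ι).map (π L) = (W₀.map (res L)).map (algebraMap _ (K L)) from
            Matrix.ext fun a c => π_alg _]
  -- lift the basis to both charts
  have hlift : ∀ i : Fin r, ∃ (p : m → L[X]) (o : Fin r → O L),
      (∀ l, res L (p l) = res L (W₀ l i)) ∧ (∀ k, π L (o k) = if k = i then 1 else 0) ∧
        eB.mulVec (ι ∘ p) = b.mulVec (fun k => (o k : B L)) := by
    intro i
    let z₀ : (m → L[X]) × (Fin r → O L) := (fun l => W₀ l i, fun k => if k = i then 1 else 0)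
    have hd : (fun k => ((z₀.2 k : O L) : B L)) = Pi.single i 1 := funext fun k => by
      by_cases hk : k = i <;> simp [z₀, hk]
    have hv : ι ∘ z₀.1 = (W₀.map ι).col i := rfl
    have h1 : Φ z₀ ∈ IsLocalRing.maximalIdeal L • S := by
      refine Submodule.smul_mono le_rfl hgen (vec_mem_range E _ ?_ fun l => mem_max_smul_of_π ?_)
      · change eB.mulVec (eB.mulVec (ι ∘ z₀.1) - b.mulVec _) = eB.mulVec (ι ∘ z₀.1) - b.mulVec _
        rw [Matrix.mulVec_sub, Matrix.mulVec_mulVec, Matrix.mulVec_mulVec, heB', heb]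
      · change π L ((eB.mulVec (ι ∘ z₀.1) - b.mulVec _) l) = 0
        rw [hd, Matrix.mulVec_single_one, hv, ← Matrix.mulVec_single_one, Matrix.mulVec_mulVec, heB,
          ← Matrix.map_mul, heW, Matrix.mulVec_single_one, Pi.sub_apply, map_sub, sub_eq_zero]
        change π L (ι (W₀ l i)) = π L (b l i)
        rw [π_alg]
        exact (congrFun (congrFun hπb l) i).symm
    rw [show S = Submodule.map Φ ⊤ from (LinearMap.range_eq_map Φ), ← Submodule.map_smul''] at h1
    obtain ⟨z, hz, hΦ⟩ := h1
    have hzero : (∀ l, res L (z.1 l) = 0) ∧ ∀ k, π L (z.2 k) = 0 := by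
      refine Submodule.smul_induction_on (p := fun z : (m → L[X]) × (Fin r → O L) =>
        (∀ l, res L (z.1 l) = 0) ∧ ∀ k, π L (z.2 k) = 0) hz (fun a ha w _ => ?_) fun w w' hw hw' => ?_
      · refine ⟨fun l => ?_, fun k => ?_⟩
        · change res L (a • w.1 l) = 0
          rw [Polynomial.smul_eq_C_mul, map_mul]
          simp [(IsLocalRing.residue_eq_zero_iff a).2 ha]
        · change π L (((a • w.2 k : O L) : B L)) = 0
          rw [Subalgebra.coe_smul, Algebra.smul_def, map_mul, π_L ha, zero_mul]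
      · exact ⟨fun l => by rw [Prod.fst_add, Pi.add_apply, map_add, hw.1 l, hw'.1 l, add_zero],
          fun k => by rw [Prod.snd_add, Pi.add_apply, Subalgebra.coe_add, map_add, hw.2 k, hw'.2 k, add_zero]⟩
    refine ⟨(z₀ - z).1, (z₀ - z).2, fun l => ?_, fun k => ?_, ?_⟩
    · rw [Prod.fst_sub, Pi.sub_apply, map_sub, hzero.1 l, sub_zero]
    · rw [Prod.snd_sub, Pi.sub_apply, AddSubgroupClass.coe_sub, map_sub, hzero.2 k, sub_zero]
      by_cases hk : k = i <;> simp [z₀, hk]
    · refine sub_eq_zero.1 (show Φ (z₀ - z) = 0 from ?_)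
      exact (LinearMap.map_sub Φ z₀ z).trans (sub_eq_zero.2 hΦ.symm)
  choose p o hp ho hpo using hlift
  let W : Matrix m (Fin r) L[X] := e * Matrix.of fun l i => p i l
  let c : Matrix (Fin r) (Fin r) (O L) := Matrix.of fun k i => o i k
  let cB : Matrix (Fin r) (Fin r) (B L) := c.map (O L).val
  have heW' : e * W = W := by simp only [W]; rw [← Matrix.mul_assoc, he]
  have hWres : W.map (res L) = W₀.map (res L) := by
    simp only [W]
    rw [Matrix.map_mul, show (Matrix.of fun l i => p i l).map (res L) = W₀.map (res L) from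
      Matrix.ext fun l i => hp i l, ← Matrix.map_mul, heW]
  have hWc : W.map ι = b * cB := by
    refine Matrix.ext fun l i => ?_
    rw [show W.map ι = eB * (Matrix.of fun l i => p i l).map ι from Matrix.map_mul]
    exact congrFun (hpo i) l
  -- the determinant at infinity is a unit
  have hdet : IsUnit cB.det := by
    have hmem : cB.det ∈ O L := by
      have := AlgHom.map_det (O L).val c
      rw [show cB = (O L).val.mapMatrix c from rfl, ← this]
      exact (c.det).2
    obtain ⟨s, q, hq, hd, h⟩ := hmem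
    have hπ1 : π L cB.det = 1 := by
      rw [RingHom.map_det, show (π L).mapMatrix cB = 1 from Matrix.ext fun k i => by
        rw [Matrix.one_apply]; exact ho i k, Matrix.det_one]
    have hres : res L s = res L q := by
      apply IsFractionRing.injective (IsLocalRing.ResidueField L)[X] (K L)
      rw [← π_alg, ← π_alg, ← h, map_mul, hπ1, one_mul]
    have hcu : IsUnit (s.coeff q.natDegree) := by
      rw [← IsLocalRing.residue_ne_zero_iff_isUnit]
      have h1 := congrArg (fun f => Polynomial.coeff f q.natDegree) hres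
      simp only [res, Polynomial.coe_mapRingHom, Polynomial.coeff_map, hq.coeff_natDegree, map_one] at h1
      rw [h1]
      exact one_ne_zero
    have hm : (Polynomial.C ((hcu.unit⁻¹ : Lˣ) : L) * s).Monic := by
      refine Polynomial.monic_of_natDegree_le_of_coeff_eq_one q.natDegree
        ((Polynomial.natDegree_C_mul_le _ _).trans hd) ?_
      rw [Polynomial.coeff_C_mul, IsUnit.val_inv_mul]
    have hs : IsUnit (ι (Polynomial.C ((hcu.unit⁻¹ : Lˣ) : L) * s)) :=
      IsLocalization.map_units (B L) (⟨_, hm⟩ : monics L)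
    rw [map_mul, ← h] at hs
    exact isUnit_of_mul_isUnit_left (isUnit_of_mul_isUnit_right hs)
  have hcB₁ := Matrix.mul_nonsing_inv cB hdet
  have hcB₂ := Matrix.nonsing_inv_mul cB hdet
  obtain ⟨G, Z, hZ⟩ := exists_num (monics L) (cB⁻¹ * b')
  have hWZ : W * Z = G.1 • e := by
    apply map_alg_injective
    rw [Matrix.map_mul, hWc, hZ, Matrix.mul_smul, Matrix.mul_assoc, ← Matrix.mul_assoc cB, hcB₁, Matrix.one_mul,
      hbb]
    ext x y
    simp only [heB, Matrix.smul_apply, Matrix.map_apply, smul_eq_mul]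
    rw [Algebra.smul_def, map_mul]
  have hZW : Z * W = G.1 • (1 : Matrix (Fin r) (Fin r) L[X]) := by
    apply map_alg_injective
    rw [Matrix.map_mul, hWc, hZ, Matrix.smul_mul, Matrix.mul_assoc, ← Matrix.mul_assoc b', hb'b, Matrix.one_mul,
      hcB₂]
    ext x y
    simp only [Matrix.smul_apply, Matrix.map_apply, smul_eq_mul]
    by_cases hxy : x = y <;> simp [Matrix.one_apply, Algebra.smul_def, hι, hxy]
  -- `W` generates the image of `e`
  let E₀ : (m → L[X]) →ₗ[L] (m → L[X]) := e.mulVecLin.restrictScalars L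
  let F₀ : Submodule L (m → L[X]) :=
    Submodule.span L (Set.range fun k : Fin G.1.natDegree × m => fun l => X ^ (k.1 : ℕ) * e l k.2)
  have hN : LinearMap.range E₀ ≤ LinearMap.range (W.mulVecLin.restrictScalars L) := by
    refine le_of_finite_generated _ _ F₀ (Submodule.fg_span (Set.finite_range _)) ?_ ?_ ?_
    · rw [Submodule.span_le]
      rintro _ ⟨k, rfl⟩
      refine ⟨fun l => X ^ (k.1 : ℕ) * e l k.2, funext fun l => ?_⟩
      change ∑ l', e l l' * (X ^ (k.1 : ℕ) * e l' k.2) = _
      change _ = X ^ (k.1 : ℕ) * e l k.2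
      conv_rhs => rw [← he, Matrix.mul_apply, Finset.mul_sum]
      exact Finset.sum_congr rfl fun l' _ => by ring
    · rintro _ ⟨y, rfl⟩
      have hy : e.mulVec y = W.mulVec (Z.mulVec fun l => y l /ₘ G.1) + e.mulVec fun l => y l %ₘ G.1 := by
        have h2 : y = G.1 • (fun l => y l /ₘ G.1) + fun l => y l %ₘ G.1 := funext fun l => by
          simp only [Pi.add_apply, Pi.smul_apply, smul_eq_mul]
          rw [add_comm, Polynomial.modByMonic_add_div]
        conv_lhs => rw [h2, Matrix.mulVec_add, Matrix.mulVec_smul]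
        rw [Matrix.mulVec_mulVec, hWZ, Matrix.smul_mulVec]
      change e.mulVec y ∈ _
      rw [hy]
      refine add_mem (Submodule.mem_sup_left ⟨_, rfl⟩) (Submodule.mem_sup_right ?_)
      have h3 : e.mulVec (fun l => y l %ₘ G.1) =
          ∑ l', ∑ k : Fin G.1.natDegree, (y l' %ₘ G.1).coeff k • fun l => X ^ (k : ℕ) * e l l' := by
        ext1 l
        simp only [Matrix.mulVec, dotProduct, Finset.sum_apply, Pi.smul_apply]
        refine Finset.sum_congr rfl fun l' _ => ?_
        by_cases hq0 : G.1 = 1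
        · simp [hq0, Polynomial.modByMonic_one]
        conv_lhs => rw [(y l' %ₘ G.1).as_sum_range' _ (Polynomial.natDegree_modByMonic_lt (y l') G.2 hq0),
          Finset.mul_sum, ← Fin.sum_univ_eq_sum_range]
        refine Finset.sum_congr rfl fun k _ => ?_
        rw [← Polynomial.smul_X_eq_monomial, Algebra.smul_def, Algebra.smul_def]
        ring
      rw [h3]
      exact Submodule.sum_mem _ fun i _ => Submodule.sum_mem _ fun k _ =>
        Submodule.smul_mem _ _ (Submodule.subset_span ⟨(k, i), rfl⟩)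
    · rintro _ ⟨y, rfl⟩
      change e.mulVec y ∈ _
      rw [← sub_add_cancel (e.mulVec y) (W.mulVec (v₀.mulVec y)), add_comm]
      refine add_mem (Submodule.mem_sup_left ⟨_, rfl⟩) (Submodule.mem_sup_right ?_)
      refine vec_mem_range E₀ _ ?_ fun l => mem_max_smul_of_res ?_
      · change e.mulVec _ = _
        rw [Matrix.mulVec_sub, Matrix.mulVec_mulVec, Matrix.mulVec_mulVec, he, heW']
      · rw [Pi.sub_apply, map_sub, Matrix.mulVec_mulVec, RingHom.map_mulVec, RingHom.map_mulVec, Matrix.map_mul,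
          hWres, ← Matrix.map_mul, hWv, sub_self]
  have hcols : ∀ k : m, ∃ y : Fin r → L[X], W.mulVec y = e.col k := fun k => by
    obtain ⟨y, hy⟩ := hN ⟨Pi.single k 1, rfl⟩
    exact ⟨y, hy.trans (Matrix.mulVec_single_one e k)⟩
  choose v hv using hcols
  let V : Matrix (Fin r) m L[X] := Matrix.of fun i k => v k i
  have hWV : W * V = e := Matrix.ext fun l k => congrFun (hv k) l
  refine ⟨W, V, hWV, ?_⟩
  have h1 : G.1 • (V * W) = G.1 • (1 : Matrix (Fin r) (Fin r) L[X]) := by
    calc G.1 • (V * W) = G.1 • (1 : Matrix (Fin r) (Fin r) L[X]) * (V * W) := by rw [Matrix.smul_mul, Matrix.one_mul]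
      _ = G.1 • (1 : Matrix (Fin r) (Fin r) L[X]) := by
        rw [← hZW, Matrix.mul_assoc, ← Matrix.mul_assoc W, hWV, heW']
  exact Matrix.ext fun x y => G.2.isRegular.left (congrFun (congrFun h1 x) y)

end Groth.Agent.HorrocksLib
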